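import Cfsg.Agent.ODD.Exc.Red
import Cfsg.Agent.OddHalf.D6.QThree.U43Tw
import Cfsg.Agent.LargeExtra.W2.U43.Defs

/-!
# ODD-EXC: all characters of `U₄(3)` are `2`-rational (helper87)
-/

set_option autoImplicit false
set_option maxRecDepth 100000

namespace Cfsg.Agent.ODD.Exc

open Cfsg Cfsg.Agent.ODD.Alt Cfsg.Agent.LargeExtra.W2 Cfsg.Agent.LargeExtra.W2.CM

/-- representatives of `Q / ⟨z⟩` -/
def qU : List T :=
  [false, true].flatMap fun a => [false, true].flatMap fun b => [false, true].flatMap fun c =>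
    [false, true].map fun d => ⟨⟨false, a, b, c, d⟩, C3.o, C3.o, false, false⟩

theorem chkU : allT (tst (T.mul true false true) T.beq T.one tz qU) = true := by decide +kernel

/-- **`U₄(3)`** -/
theorem allR_u43 {F : Type*} [Field F] [Fintype F] (hF : Fintype.card F = 9) : AllR (PSU 4 F 3) := by
  have h3 : CharP F 3 := by
    have h := FiniteField.cast_card_eq_zero F
    rw [hF] at h
    have h1 : (3 : F) = 0 := by
      have h2 : (3 : F) ^ 2 = 0 := by rw [← h]; norm_num
      exact pow_eq_zero_iff (by norm_num) |>.1 h2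
    exact (CharP.charP_iff_prime_eq_zero (by norm_num)).2 (by exact_mod_cast h1)
  obtain ⟨i, j, k, l, x₁, x₂, y, s, h, -, -⟩ := OddHalf.D6.QThree.U43Tw.exists_tw hF
  have R := h.rules
  have hi := ev_inj h.toCase9aa R
  refine Mod.allR (mul := T.mul true false true) (beq := T.beq) (one := T.one) (z := tz) (C := qU)
    (ev := fun t => t.ev _ i j k l x₁ x₂ y s) ⟨fun a b => (ev_mul R a b).symm, ev_one, fun a b => ?_, fun g hg => ?_⟩
    (allT_spec chkU) fun t h1 h2 => ?_
  · exact T.beq_iff.trans hi.eq_iff.symm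
  · rw [ev_z] at hg
    obtain ⟨t, ht⟩ := exists_ev h.toCase9aa R hg
    exact ⟨t, ht.symm⟩
  · obtain ⟨g, hg⟩ := OddHalf.D6.QThree.U43Tw.one_class hF t h2 h1
    rw [ev_z]
    exact (isConj_iff.2 ⟨g, hg⟩).symm

end Cfsg.Agent.ODD.Exc
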