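import Cfsg.Agent.ODD.Exc.Red
import Cfsg.Agent.GTwoThree.Cent

/-!
# ODD-EXC: `G₂(3)`, the check in the subgroup of index two of `C(z)` (helper87)
-/

set_option autoImplicit false
set_option maxRecDepth 100000

namespace Cfsg.Agent.ODD.Exc

open Cfsg Cfsg.Lie Cfsg.Agent.ODD.Alt Cfsg.Agent.LargeExtra.W2 Cfsg.Agent.LargeExtra.W2.PlusHom
open Cfsg.Agent.LargeExtra.Model Cfsg.Agent.GTwoThree.Cent

/-- equality of codes -/
def beqK (a b : K) : Bool := decide (a = b)

/-- some elements of `Q` -/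
def qG : List K := [kq mi, kq mj, kq mk, kq ml, kq (mi * mj), kq (mk * ml), kq (mi * mk), kq (mi * ml), kq (mj * mk),
  kq (mj * ml), kq (mi * mj * mk), kq (mi * mj * ml), kq (mi * (mk * ml)), kq (mj * (mk * ml)), kq (mi * mj * (mk * ml))]

theorem chkG0 : ∀ (m : M) (a b : Fin 3), tst (mul false) beqK k1 (kq zz) qG (m, a, b, 0) = true := by decide +kernel

end Cfsg.Agent.ODD.Exc
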