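import Cfsg.Agent.ODD.Exc.O7B

/-!
# ODD-EXC: all characters of `Ω₇(3)` are `2`-rational (helper87)
-/

set_option autoImplicit false

namespace Cfsg.Agent.ODD.Exc

open QuadraticMap Module Cfsg.Agent.LieClassical.OrthCore Cfsg.Agent.LieClassical.OrthTrans
  Cfsg.Agent.LieClassical.OrthForms Cfsg.Agent.H237.OSeven Cfsg.Agent.H237.OSevenB Cfsg.Agent.ODD.Alt

/-- an even permutation all of whose cycles have length four -/
theorem eight_dvd {α : Type*} [Fintype α] [DecidableEq α] {σ : Equiv.Perm α} (h4 : σ ^ 4 = 1) (h2 : ∀ x, σ (σ x) ≠ x)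
    (hs : Equiv.Perm.sign σ = 1) : 8 ∣ Fintype.card α := by
  have h1 : ∀ n ∈ σ.cycleType, n = 4 := by
    intro n hn
    have h5 := (Equiv.Perm.dvd_of_mem_cycleType hn).trans (orderOf_dvd_of_pow_eq_one h4)
    have h6 := Equiv.Perm.two_le_of_mem_cycleType hn
    have h7 := Nat.le_of_dvd (by norm_num) h5
    have h8 : n ≠ 2 := by
      rintro rfl
      rw [Equiv.Perm.cycleType_def, Multiset.mem_map] at hn
      obtain ⟨c, hc, h9⟩ := hn
      obtain ⟨h10, h11⟩ := Equiv.Perm.mem_cycleFactorsFinset_iff.1 hc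
      obtain ⟨x, hx⟩ := h10.nonempty_support
      have h12 : c ^ 2 = 1 := by rw [← show orderOf c = 2 from h10.orderOf.trans h9, pow_orderOf_eq_one]
      refine h2 x ?_
      rw [← h11 x hx, ← h11 _ (Equiv.Perm.apply_mem_support.2 hx)]
      exact DFunLike.congr_fun (pow_two c ▸ h12) x
    interval_cases n <;> simp_all
  have h3 : σ.cycleType.sum = Fintype.card α := by
    rw [Equiv.Perm.sum_cycleType, ← Finset.card_univ]
    congr 1
    exact Finset.eq_univ_iff_forall.2 fun x => Equiv.Perm.mem_support.2 fun h => h2 x (by rw [h, h])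
  rw [Equiv.Perm.sign_of_cycleType, neg_one_pow_eq_one_iff_even (by decide)] at hs
  rw [← h3]
  rw [Multiset.eq_replicate_card.2 h1, Multiset.sum_replicate, Multiset.card_replicate, smul_eq_mul] at hs
  rw [Multiset.eq_replicate_card.2 h1, Multiset.sum_replicate, smul_eq_mul]
  obtain ⟨k, hk⟩ := hs
  omega

variable {F V : Type*} [Field F] [AddCommGroup V] [Module F V] {Q : QuadraticForm F V}

/-- the permutation of a quadric -/
def qp (Q : QuadraticForm F V) (c : F) : O Q →* Equiv.Perm {x : V // Q x = c} where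
  toFun g :=
    { toFun := fun x => ⟨(g : V ≃ₗ[F] V) x, by rw [mem_O.1 g.2]; exact x.2⟩
      invFun := fun x => ⟨((g⁻¹ : O Q) : V ≃ₗ[F] V) x, by rw [mem_O.1 (g⁻¹).2]; exact x.2⟩
      left_inv := fun x => Subtype.ext ((g : V ≃ₗ[F] V).symm_apply_apply x)
      right_inv := fun x => Subtype.ext ((g : V ≃ₗ[F] V).apply_symm_apply x) }
  map_one' := by ext x; rfl
  map_mul' g h := by ext x; rfl

theorem eight_dvd_quadric [Finite V] (hG : Good Q) {J : V ≃ₗ[F] V} (hJ : J ∈ E Q) (h4 : ∀ x, J (J (J (J x))) = x) {c : F}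
    (h2 : ∀ x, Q x = c → J (J x) ≠ x) : 8 ∣ Nat.card {x : V // Q x = c} := by
  classical
  have := Fintype.ofFinite {x : V // Q x = c}
  rw [Nat.card_eq_fintype_card]
  refine eight_dvd (σ := qp Q c ⟨J, E_le_O hJ⟩) (Equiv.ext fun x => Subtype.ext (h4 x))
    (fun x hx => h2 x x.2 (congrArg Subtype.val hx)) ?_
  have h1 : (⟨J, E_le_O hJ⟩ : O Q) ∈ commutator (O Q) := by
    rw [← hG.commutator_eq_E, ← Subgroup.map_subtype_commutator] at hJ
    obtain ⟨y, hy, rfl⟩ := hJ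
    exact hy
  exact Abelianization.commutator_subset_ker (Equiv.Perm.sign.comp (qp Q c)) h1

/-- the main step -/
theorem conj_seven [Finite V] (h3 : Three F) (hG : Good Q) (hd : finrank F V = 7)
    (hz : ∀ (u : V) (hq : Q u ≠ 0), Q u = -1 → zz Q u hq ∈ E Q) (hp : ¬ 8 ∣ Nat.card {x : V // Q x = 1})
    (hm : ¬ 8 ∣ Nat.card {x : V // Q x = -1}) {g : V ≃ₗ[F] V} (hE : g ∈ E Q) {j e : ℕ} (he : (g ^ (2 * j)) ^ 2 ^ e = 1) :
    ∃ c ∈ E Q, ∀ x, c (g x) = (g ^ (2 * j)) (g (c x)) := by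
  have : FiniteDimensional F V := Module.finite_of_finrank_pos (by omega)
  have hg := E_le_O hE
  by_cases h1 : ∀ x ∈ (⊤ : Submodule F V), (g ^ (2 * j)) x = x
  · exact ⟨1, one_mem _, fun x => (h1 _ trivial).symm⟩
  rcases first_plane h3 hG.nondeg hg pr_top (fun _ _ => trivial) he h1 with ⟨u, -, hq, hu, h2⟩ | ⟨n, u, h4, hu, hq, hb⟩
  · exact ⟨_, hz u hq hu, fun x => h2 x trivial⟩
  have hJ := js_eig h3 hg pr_top (fun _ _ => trivial) h4
  have hJ' := hJ.next h3 hu hq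
  obtain ⟨v, hv, hqv⟩ := hJ'.exists h3 hG.nondeg hb
  have htt : g ^ (2 * n) * g ^ (2 * n) = 1 := LinearEquiv.ext fun x => h4 x trivial
  have r0 : finrank F (eig (g ^ (2 * n)) 1) + finrank F (⊤ ⊓ eig (g ^ (2 * n)) (-1) : Submodule F V) = 7 := by
    rw [top_inf_eq, ← Submodule.finrank_sup_add_finrank_inf_eq, eig_disjoint h3.two, eig_sup h3.two htt, finrank_top,
      finrank_bot, hd]
  have r1 := hJ.rank h3 hu hq
  have r2 := hJ'.rank h3 hv hqv
  by_cases hb' : Pl Q (g ^ n) (Pl Q (g ^ n) (⊤ ⊓ eig (g ^ (2 * n)) (-1)) u) v = ⊥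
  swap
  · exfalso
    obtain ⟨w, hw, hqw⟩ := (hJ'.next h3 hv hqv).exists h3 hG.nondeg hb'
    have r3 := (hJ'.next h3 hv hqv).rank h3 hw hqw
    obtain ⟨l, hl⟩ := finrank_le_one_iff.1 (show finrank F (eig (g ^ (2 * n)) 1) ≤ 1 by omega)
    have key : ∀ c : F, c ≠ 0 → c ≠ Q l → 8 ∣ Nat.card {x : V // Q x = c} := fun c hc hc' => by
      refine eight_dvd_quadric hG (pow_mem hE n) (fun x => ?_) fun x hx h5 => ?_
      · rw [← sq_apply, ← sq_apply, h4 x trivial]
      · obtain ⟨a, ha⟩ := hl ⟨x, mem_eig.2 (by rw [sq_apply, h5, one_smul])⟩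
        have h6 : a • (l : V) = x := congrArg Subtype.val ha
        rw [← h6, QuadraticMap.map_smul] at hx
        rcases h3.cases a with rfl | rfl | rfl
        · exact hc (by simpa using hx.symm)
        · exact hc' (by simpa using hx.symm)
        · exact hc' (by simpa using hx.symm)
    by_cases h5 : Q l = 1
    · exact hm (key _ (by simp) fun h6 => h3.two (by linear_combination -h6 - h5))
    · exact hp (key _ one_ne_zero fun h6 => h5 h6.symm)
  have hS : ∀ s : F, ∀ x ∈ eig (g ^ (2 * n)) s, g x ∈ eig (g ^ (2 * n)) s := fun s x hx =>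
    mem_eig.2 (by rw [comm_apply, mem_eig.1 hx, map_smul])
  have ho : ∀ x ∈ (⊤ ⊓ eig (g ^ (2 * n)) (-1) : Submodule F V), ∀ y ∈ eig (g ^ (2 * n)) 1, polar Q x y = 0 := by
    intro x hx y hy
    have h5 := polar_map (pow_mem hg (2 * n)) x y
    rw [mem_eig.1 hx.2, mem_eig.1 hy, one_smul, polar_smul_left, smul_eq_mul] at h5
    linear_combination h5 + polar Q x y * h3.three
  obtain ⟨c, hc, h5, h6⟩ := two_planes h3 hG hg hJ (fun x hx => ⟨trivial, hS _ x hx.2⟩) hu hq hv hqv hb' he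
  have ext : ∀ k : V ≃ₗ[F] V, (∀ x ∈ (⊤ ⊓ eig (g ^ (2 * n)) (-1) : Submodule F V), k (g x) = (g ^ (2 * j)) (g (k x))) →
      (∀ x ∈ eig (g ^ (2 * n)) 1, k (g x) = (g ^ (2 * j)) (g (k x))) → ∀ x, k (g x) = (g ^ (2 * j)) (g (k x)) := by
    intro k h7 h8 x
    obtain ⟨a, ha, b, hb, rfl⟩ := Submodule.mem_sup.1 (eig_sup h3.two htt ▸ Submodule.mem_top (x := x))
    simp only [map_add, h8 a ha, h7 b ⟨trivial, hb⟩]
  by_cases h7 : ∀ x ∈ eig (g ^ (2 * n)) 1, (g ^ (2 * j)) x = x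
  · refine ⟨c, hc, ext c h5 fun x hx => ?_⟩
    rw [h6 x fun y hy => ho y hy x hx, h6 _ fun y hy => ho y hy _ (hS _ x hx), h7 _ (hS _ x hx)]
  have hP : Pr Q (eig (g ^ (2 * n)) 1) := by
    simpa using pr_top.eig h3 (pow_mem hg (2 * n)) (fun _ _ => trivial) h4 (mul_one (1 : F))
  rcases first_plane h3 hG.nondeg hg hP (hS 1) he h7 with ⟨w, hw, hqw, hw1, h8⟩ | ⟨m, w, h8, hw, hqw, hbw⟩
  · have h9 : ∀ x ∈ (⊤ ⊓ eig (g ^ (2 * n)) (-1) : Submodule F V), zz Q w hqw x = -x := fun x hx => by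
      rw [zz_apply, polar_zero_of_comm (ho x hx w hw), mul_zero, zero_smul, add_zero]
    have h10 : ∀ x ∈ eig (g ^ (2 * n)) 1, c (zz Q w hqw x) = zz Q w hqw x := fun x hx =>
      h6 _ fun y hy => ho y hy _ (by rw [zz_apply]; exact add_mem (neg_mem hx) (Submodule.smul_mem _ _ hw))
    refine ⟨c * zz Q w hqw, mul_mem hc (hz w hqw hw1), ext _ (fun x hx => ?_) fun x hx => ?_⟩
    · show c (zz Q w hqw (g x)) = (g ^ (2 * j)) (g (c (zz Q w hqw x)))
      rw [h9 x hx, h9 _ ⟨trivial, hS _ x hx.2⟩, map_neg, map_neg, map_neg, map_neg, h5 x hx]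
    · show c (zz Q w hqw (g x)) = (g ^ (2 * j)) (g (c (zz Q w hqw x)))
      rw [h10 x hx, h10 _ (hS _ x hx), h8 x hx]
  · exfalso
    have hK := js_eig h3 hg hP (hS 1) h8
    obtain ⟨w', hw', hqw'⟩ := (hK.next h3 hw hqw).exists h3 hG.nondeg hbw
    have r3 := hK.rank h3 hw hqw
    have r4 := (hK.next h3 hw hqw).rank h3 hw' hqw'
    have r5 : finrank F (eig (g ^ (2 * n)) 1 ⊓ eig (g ^ (2 * m)) (-1) : Submodule F V) ≤
        finrank F (eig (g ^ (2 * n)) 1) := Submodule.finrank_mono inf_le_left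
    omega

theorem cP : (Finset.univ.filter fun v : I → ZMod 3 => v (.inl ()) ^ 2 + ∑ i : Fin 3, v (.inr (.inl i)) * v (.inr (.inr i)) =
    1).card = 756 := by decide +kernel

theorem card_P (hF : Nat.card F = 3) : Nat.card {v : I → F // oddForm 3 F v = 1} = 756 := by
  obtain ⟨e⟩ := ringEquiv hF
  rw [← cP, ← Fintype.card_subtype, ← Nat.card_eq_fintype_card]
  refine Nat.card_congr (Equiv.subtypeEquiv (Equiv.arrowCongr (Equiv.refl I) e.toEquiv) fun v => ?_)
  rw [Q_eq]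
  show _ ↔ (e (v (.inl ()))) ^ 2 + ∑ i : Fin 3, e (v (.inr (.inl i))) * e (v (.inr (.inr i))) = 1
  rw [← e.injective.eq_iff, map_add, map_pow, map_sum, map_one]
  simp only [map_mul]

open Cfsg.Agent.H237.OSevenC in
/-- **`Ω₇(3)`** -/
theorem allR_o73 [Fintype F] (hF : Fintype.card F = 3) : AllR (POmega F (quadFormOdd 3 F)) := by
  rw [← Nat.card_eq_fintype_card] at hF
  obtain ⟨hc, ⟨e⟩⟩ := card_E hF
  have : Finite ↥(E (oddForm 3 F)) := Nat.finite_of_card_ne_zero (by rw [hc]; norm_num)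
  have h3 : Three F := ⟨field_cases hF, by
    obtain ⟨φ⟩ := ringEquiv hF
    exact φ.injective (by rw [map_ofNat, map_zero]; rfl)⟩
  have hz : ∀ (u : I → F) (hq : oddForm 3 F u ≠ 0), oddForm 3 F u = -1 → zz (oddForm 3 F) u hq ∈ E (oddForm 3 F) := by
    intro u hq hu
    obtain ⟨k, hk, rfl⟩ := (good hF).trans_norm (v := v0 F) (v' := u) v0_ne
      (fun h => hq (by rw [h, QuadraticMap.map_zero])) ((Q_w 0 (-1)).trans hu.symm)
    rw [← zz_conj (E_le_O hk) (Qm 0) hq]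
    exact conj_mem_E (E_le_O hk) (zz_mem (good hF))
  refine AllR.congr e (allR_of_two fun g j e he => ?_)
  obtain ⟨c, hc, h⟩ := conj_seven h3 (good hF) finrank_V hz (by rw [card_P hF]; norm_num)
    (by rw [card_N hF]; norm_num) g.2 (j := j) (e := e) (congrArg Subtype.val he)
  refine isConj_iff.2 ⟨⟨c, hc⟩, ?_⟩
  rw [mul_inv_eq_iff_eq_mul, pow_succ]
  exact Subtype.ext (LinearEquiv.ext h)

end Cfsg.Agent.ODD.Exc
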