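import Cfsg.Agent.ODD.Exc.Red
import Cfsg.Agent.H237.OSevenC

/-!
# ODD-EXC: planes `⟨u, J u⟩` with `J² = -1` in a quadratic space over the field with three elements (helper87)
-/

set_option autoImplicit false

namespace Cfsg.Agent.ODD.Exc

open QuadraticMap Module Cfsg.Agent.LieClassical.OrthCore Cfsg.Agent.LieClassical.OrthTrans
  Cfsg.Agent.H237.OSeven Cfsg.Agent.H237.OSevenB

/-- the field has three elements -/
structure Three (F : Type*) [Field F] : Prop where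
  cases : ∀ c : F, c = 0 ∨ c = 1 ∨ c = -1
  three : (3 : F) = 0

variable {F V : Type*} [Field F] [AddCommGroup V] [Module F V] {Q : QuadraticForm F V}

theorem Three.two (h : Three F) : (2 : F) ≠ 0 := fun h2 => one_ne_zero (α := F) (by linear_combination h.three - h2)

theorem Three.smul (h : Three F) (x : V) : x + x + x = 0 := by
  have h1 : (3 : F) • x = 0 := by rw [h.three, zero_smul]
  rw [← h1]
  module

theorem Three.eq_zero (h : Three F) {x : V} (hx : x = -x) : x = 0 := by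
  have h1 := h.smul x
  rw [show x + x = 0 from eq_neg_iff_add_eq_zero.1 hx, zero_add] at h1
  exact h1

/-- the orthogonal complement of a vector -/
def perp (Q : QuadraticForm F V) (u : V) : Submodule F V := LinearMap.ker (polarBilin Q u)

theorem mem_perp {u x : V} : x ∈ perp Q u ↔ polar Q u x = 0 := Iff.rfl

/-- there is an orthogonal projection onto `S` -/
def Pr (Q : QuadraticForm F V) (S : Submodule F V) : Prop := ∀ y, ∃ s ∈ S, ∀ x ∈ S, polar Q x y = polar Q x s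

theorem pr_top : Pr Q ⊤ := fun y => ⟨y, trivial, fun _ _ => rfl⟩

theorem Pr.eig (h3 : Three F) {U : Submodule F V} (h : Pr Q U) {t : V ≃ₗ[F] V} (ht : t ∈ O Q)
    (hU : ∀ x ∈ U, t x ∈ U) (htt : ∀ x ∈ U, t (t x) = x) {c : F} (hc : c * c = 1) : Pr Q (U ⊓ eig t c) := by
  intro y
  obtain ⟨s, hs, h1⟩ := h y
  refine ⟨-(s + c • t s), ⟨neg_mem (add_mem hs (U.smul_mem _ (hU s hs))), ?_⟩, fun x hx => ?_⟩
  · refine neg_mem (mem_eig.2 ?_)
    rw [map_add, map_smul, htt s hs, smul_add, smul_smul, hc, one_smul, add_comm]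
  · have h2 : polar Q x (t s) = c * polar Q x s := by
      rw [← polar_map ht, htt s hs, mem_eig.1 hx.2, polar_smul_left, smul_eq_mul]
    rw [h1 x hx.1, polar_neg_right, polar_add_right, polar_smul_right, h2, smul_eq_mul, ← mul_assoc, hc]
    linear_combination (polar Q x s) * h3.three

theorem polar_unit (h3 : Three F) {u : V} (hu : Q u = -1) : polar Q u u = 1 := by
  rw [polar_self', hu]
  linear_combination -h3.three

theorem sub_mem_perp (h3 : Three F) {u : V} (hu : Q u = -1) (x : V) : x - polar Q u x • u ∈ perp Q u := by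
  rw [mem_perp, polar_sub_right, polar_smul_right, polar_unit h3 hu, smul_eq_mul, mul_one, sub_self]

theorem Pr.perp (h3 : Three F) {S : Submodule F V} (h : Pr Q S) {u : V} (hS : u ∈ S) (hu : Q u = -1) :
    Pr Q (S ⊓ perp Q u) := by
  intro y
  obtain ⟨s, hs, h1⟩ := h y
  refine ⟨s - polar Q u s • u, ⟨sub_mem hs (S.smul_mem _ hS), sub_mem_perp h3 hu s⟩, fun x hx => ?_⟩
  rw [h1 x hx.1, polar_sub_right, polar_smul_right, polar_comm Q x u, mem_perp.1 hx.2, smul_zero, sub_zero]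

theorem Pr.exists (hQ : Nondeg Q) {S : Submodule F V} (h : Pr Q S) (hS : S ≠ ⊥) : ∃ u ∈ S, Q u ≠ 0 := by
  obtain ⟨x, hx, h0⟩ := Submodule.exists_mem_ne_zero_of_ne_bot hS
  obtain ⟨y, hy⟩ := hQ.exists_polar_eq h0 1
  obtain ⟨s, hs, h1⟩ := h y
  rcases exists_nonsing ((h1 x hx).symm.trans hy) with h2 | h2 | h2
  · exact ⟨x, hx, h2⟩
  · exact ⟨s, hs, h2⟩
  · exact ⟨x + s, add_mem hx hs, h2⟩

/-- `J² = -1` on `S` -/
structure JS (Q : QuadraticForm F V) (J : V ≃ₗ[F] V) (S : Submodule F V) : Prop where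
  iso : J ∈ O Q
  pr : Pr Q S
  inv : ∀ x ∈ S, J x ∈ S
  sq : ∀ x ∈ S, J (J x) = -x

/-- the complement of the plane of `u` -/
def Pl (Q : QuadraticForm F V) (J : V ≃ₗ[F] V) (S : Submodule F V) (u : V) : Submodule F V :=
  S ⊓ perp Q u ⊓ perp Q (J u)

section

variable {J : V ≃ₗ[F] V} {S : Submodule F V} {u : V}

theorem mem_Pl {x : V} : x ∈ Pl Q J S u ↔ x ∈ S ∧ polar Q u x = 0 ∧ polar Q (J u) x = 0 := and_assoc

theorem JS.skew (h : JS Q J S) {x : V} (hx : x ∈ S) (y : V) : polar Q x (J y) = -polar Q (J x) y := by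
  rw [← polar_map h.iso (J x) y, h.sq x hx, polar_neg_left, neg_neg]

theorem JS.orth (h3 : Three F) (h : JS Q J S) (hu : u ∈ S) : polar Q u (J u) = 0 := by
  have h1 := h.skew hu u
  rw [polar_comm Q (J u) u] at h1
  linear_combination -h1 + polar Q u (J u) * h3.three

theorem JS.exists (h3 : Three F) (hQ : Nondeg Q) (h : JS Q J S) (hS : S ≠ ⊥) : ∃ u ∈ S, Q u = -1 := by
  obtain ⟨u, hu, h1⟩ := h.pr.exists hQ hS
  rcases h3.cases (Q u) with h2 | h2 | h2
  · exact absurd h2 h1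
  · refine ⟨u + J u, add_mem hu (h.inv u hu), ?_⟩
    rw [Q_add, h.orth h3 hu, mem_O.1 h.iso, h2]
    linear_combination h3.three
  · exact ⟨u, hu, h2⟩

theorem JS.next (h3 : Three F) (h : JS Q J S) (hu : u ∈ S) (hq : Q u = -1) : JS Q J (Pl Q J S u) where
  iso := h.iso
  pr := (h.pr.perp h3 hu hq).perp h3 ⟨h.inv u hu, h.orth h3 hu⟩ ((mem_O.1 h.iso u).trans hq)
  inv x hx := by
    obtain ⟨h1, h2, h4⟩ := mem_Pl.1 hx
    exact mem_Pl.2 ⟨h.inv x h1, by rw [h.skew hu, h4, neg_zero], by rw [polar_map h.iso, h2]⟩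
  sq x hx := h.sq x (mem_Pl.1 hx).1

theorem JS.decomp (h3 : Three F) (h : JS Q J S) (hu : u ∈ S) (hq : Q u = -1) {x : V} (hx : x ∈ S) :
    x - polar Q u x • u - polar Q (J u) x • J u ∈ Pl Q J S u := by
  have h1 := h.orth h3 hu
  refine mem_Pl.2 ⟨sub_mem (sub_mem hx (S.smul_mem _ hu)) (S.smul_mem _ (h.inv u hu)), ?_, ?_⟩
  · rw [polar_sub_right, mem_perp.1 (sub_mem_perp h3 hq x), polar_smul_right, h1, smul_zero, sub_zero]
  · rw [polar_sub_right, polar_sub_right, polar_smul_right, polar_smul_right, polar_comm Q (J u) u, h1,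
      polar_unit h3 ((mem_O.1 h.iso u).trans hq), smul_zero, sub_zero, smul_eq_mul, mul_one, sub_self]

theorem JS.rank [FiniteDimensional F V] (h3 : Three F) (h : JS Q J S) (hu : u ∈ S) (hq : Q u = -1) :
    finrank F (Pl Q J S u) + 2 ≤ finrank F S := by
  have key : ∀ (T : Submodule F V) (v : V), v ∈ T → Q v = -1 → finrank F (T ⊓ perp Q v : Submodule F V) < finrank F T :=
    fun T v hv h1 => Submodule.finrank_lt_finrank_of_lt (lt_of_le_of_ne inf_le_left fun h2 => by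
      rw [← h2] at hv
      exact one_ne_zero ((polar_unit h3 h1).symm.trans (mem_perp.1 hv.2)))
  have h1 := key S u hu hq
  have h2 := key (S ⊓ perp Q u) (J u) ⟨h.inv u hu, h.orth h3 hu⟩ ((mem_O.1 h.iso u).trans hq)
  unfold Pl
  omega

end

theorem pow_mem_sub {g : V ≃ₗ[F] V} {U : Submodule F V} (hU : ∀ x ∈ U, g x ∈ U) (n : ℕ) : ∀ x ∈ U, (g ^ n) x ∈ U := by
  induction n with
  | zero => exact fun x hx => hx
  | succ n ih => exact fun x hx => by rw [pow_succ]; exact ih _ (hU x hx)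

theorem pow_comm_apply (g : V ≃ₗ[F] V) (m n : ℕ) (x : V) : (g ^ m) ((g ^ n) x) = (g ^ n) ((g ^ m) x) := by
  show (g ^ m * g ^ n) x = (g ^ n * g ^ m) x
  rw [pow_mul_comm]

theorem comm_apply (g : V ≃ₗ[F] V) (n : ℕ) (x : V) : (g ^ n) (g x) = g ((g ^ n) x) := by
  simpa using pow_comm_apply g n 1 x

theorem sq_apply (g : V ≃ₗ[F] V) (n : ℕ) (x : V) : (g ^ (2 * n)) x = (g ^ n) ((g ^ n) x) := by
  rw [two_mul, pow_add]
  rfl

theorem pow_fix {g : V ≃ₗ[F] V} {x : V} (h : g x = x) (n : ℕ) : (g ^ n) x = x := by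
  induction n with
  | zero => rfl
  | succ n ih => rw [pow_succ]; show (g ^ n) (g x) = x; rw [h, ih]

/-- the `-1`-eigenspace of `g ^ (2 n)` in `U` -/
theorem js_eig (h3 : Three F) {g : V ≃ₗ[F] V} (hg : g ∈ O Q) {U : Submodule F V} (hP : Pr Q U)
    (hU : ∀ x ∈ U, g x ∈ U) {n : ℕ} (h4 : ∀ x ∈ U, (g ^ (2 * n)) ((g ^ (2 * n)) x) = x) :
    JS Q (g ^ n) (U ⊓ eig (g ^ (2 * n)) (-1)) where
  iso := pow_mem hg n
  pr := hP.eig h3 (pow_mem hg _) (pow_mem_sub hU _) h4 (by simp)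
  inv x hx := ⟨pow_mem_sub hU n x hx.1, mem_eig.2 (by rw [pow_comm_apply, mem_eig.1 hx.2, map_smul])⟩
  sq x hx := by rw [← sq_apply, mem_eig.1 hx.2, neg_one_smul]

theorem eig_ne (h3 : Three F) {t : V ≃ₗ[F] V} {U : Submodule F V} (hU : ∀ x ∈ U, t x ∈ U) (h4 : ∀ x ∈ U, t (t x) = x)
    {x : V} (hx : x ∈ U) : x - t x ∈ U ⊓ eig t (-1) :=
  ⟨sub_mem hx (hU x hx), mem_eig.2 (by have := h3.two; rw [map_sub, h4 x hx, neg_one_smul, neg_sub])⟩

/-- **one plane** -/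
theorem one_plane (h3 : Three F) {g : V ≃ₗ[F] V} (hg : g ∈ O Q) {U : Submodule F V} (hP : Pr Q U)
    (hU : ∀ x ∈ U, g x ∈ U) {n : ℕ} (h4 : ∀ x ∈ U, (g ^ (2 * n)) ((g ^ (2 * n)) x) = x) {u : V}
    (hu : u ∈ U ⊓ eig (g ^ (2 * n)) (-1)) (hq : Q u = -1) (hq' : Q u ≠ 0)
    (hb : Pl Q (g ^ n) (U ⊓ eig (g ^ (2 * n)) (-1)) u = ⊥) :
    g (g u) = -u ∧ ∀ x ∈ U, zz Q u hq' (g x) = (g ^ (2 * n)) (g (zz Q u hq' x)) := by
  have hJ := js_eig h3 hg hP hU h4
  have hd : ∀ x ∈ U ⊓ eig (g ^ (2 * n)) (-1), x = polar Q u x • u + polar Q ((g ^ n) u) x • (g ^ n) u := fun x hx => by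
    have h1 := hJ.decomp h3 hu hq hx
    rw [hb, Submodule.mem_bot, sub_sub, sub_eq_zero] at h1
    exact h1
  have htu : (g ^ (2 * n)) u = -u := by rw [mem_eig.1 hu.2, neg_one_smul]
  have hu0 : u ≠ -u := fun h => hq' (by rw [h3.eq_zero h, QuadraticMap.map_zero])
  have hgu : g u ∈ U ⊓ eig (g ^ (2 * n)) (-1) :=
    ⟨hU u hu.1, mem_eig.2 (by rw [comm_apply, htu, map_neg, neg_one_smul])⟩
  obtain ⟨a, b, hab⟩ : ∃ a b : F, g u = a • u + b • (g ^ n) u := ⟨_, _, hd _ hgu⟩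
  have h1 : a * a + b * b = 1 := by
    have h2 := mem_O.1 hg u
    rw [hab, Q_add, QuadraticMap.map_smul, QuadraticMap.map_smul, polar_smul_left, polar_smul_right, hJ.orth h3 hu,
      mem_O.1 hJ.iso, hq] at h2
    simp only [smul_eq_mul] at h2
    linear_combination -h2
  have hb1 : b * b = 1 := by
    rcases h3.cases b with rfl | rfl | rfl
    · rw [zero_smul, add_zero] at hab
      have h2 : (g ^ 2) u = u := by
        rw [pow_two]
        show g (g u) = u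
        rw [hab, map_smul, hab, smul_smul, show a * a = 1 by linear_combination h1, one_smul]
      rw [pow_mul, pow_fix h2] at htu
      exact absurd htu hu0
    · exact mul_one 1
    · simp
  have ha : a = 0 := mul_self_eq_zero.1 (by linear_combination h1 - hb1)
  rw [ha, zero_smul, zero_add] at hab
  refine ⟨?_, fun x hx => ?_⟩
  · conv_lhs => rw [hab, map_smul, ← comm_apply, hab, map_smul, smul_smul, hb1, one_smul, hJ.sq u hu]
  have h5 := hd _ (eig_ne h3 (pow_mem_sub hU _) h4 (hU x hx))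
  have h6 : ∀ v ∈ U ⊓ eig (g ^ (2 * n)) (-1), ∀ y ∈ U, polar Q v (y - (g ^ (2 * n)) y) = -polar Q v y := by
    intro v hv y hy
    rw [polar_sub_right, ← polar_map (pow_mem hg (2 * n)) v ((g ^ (2 * n)) y), h4 y hy, mem_eig.1 hv.2, polar_smul_left,
      smul_eq_mul]
    linear_combination polar Q v y * h3.three
  rw [h6 u hu _ (hU x hx), h6 _ (hJ.inv u hu) _ (hU x hx)] at h5
  have h7 : polar Q u x = b * polar Q ((g ^ n) u) (g x) := by
    rw [← polar_map hg u x, hab, polar_smul_left, smul_eq_mul]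
  have h8 : (g ^ (2 * n)) (g u) = -(b • (g ^ n) u) := by rw [mem_eig.1 hgu.2, neg_one_smul, hab]
  have h9 : (g ^ (2 * n)) (g x) = g x + polar Q u (g x) • u + polar Q ((g ^ n) u) (g x) • (g ^ n) u := by
    linear_combination (norm := module) -h5
  rw [zz_apply, zz_apply, map_add, map_add, map_neg, map_neg, map_smul, map_smul, h8, h9, h7, hq, smul_neg, smul_smul,
    inv_neg, inv_one, show -1 * (b * polar Q ((g ^ n) u) (g x)) * b = -polar Q ((g ^ n) u) (g x) by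
      linear_combination (-polar Q ((g ^ n) u) (g x)) * hb1]
  module

/-- a `2`-element which is not trivial on `U` has a power which is an involution on `U` -/
theorem exists_inv_on {h : V ≃ₗ[F] V} {U : Submodule F V} (h1 : ¬ ∀ x ∈ U, h x = x) :
    ∀ e : ℕ, (∀ x ∈ U, (h ^ 2 ^ e) x = x) →
      ∃ b : ℕ, (¬ ∀ x ∈ U, (h ^ 2 ^ b) x = x) ∧ ∀ x ∈ U, (h ^ 2 ^ b) ((h ^ 2 ^ b) x) = x := by
  intro e
  induction e with
  | zero => intro h2; exact absurd (by simpa using h2) h1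
  | succ e ih =>
    intro h2
    by_cases h3 : ∀ x ∈ U, (h ^ 2 ^ e) x = x
    · exact ih h3
    · exact ⟨e, h3, fun x hx => by rw [← sq_apply, ← pow_succ', h2 x hx]⟩

/-- **the first plane**: either it is the only one and `-ρ_u` conjugates `g` to `g ^ (2 j + 1)` on `U`, or there is a
second one -/
theorem first_plane (h3 : Three F) (hQ : Nondeg Q) {g : V ≃ₗ[F] V} (hg : g ∈ O Q) {U : Submodule F V} (hP : Pr Q U)
    (hU : ∀ x ∈ U, g x ∈ U) {j e : ℕ} (he : (g ^ (2 * j)) ^ 2 ^ e = 1) (h1 : ¬ ∀ x ∈ U, (g ^ (2 * j)) x = x) :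
    (∃ u ∈ U, ∃ hq : Q u ≠ 0, Q u = -1 ∧ ∀ x ∈ U, zz Q u hq (g x) = (g ^ (2 * j)) (g (zz Q u hq x))) ∨
    ∃ n u, (∀ x ∈ U, (g ^ (2 * n)) ((g ^ (2 * n)) x) = x) ∧ u ∈ U ⊓ eig (g ^ (2 * n)) (-1) ∧ Q u = -1 ∧
      Pl Q (g ^ n) (U ⊓ eig (g ^ (2 * n)) (-1)) u ≠ ⊥ := by
  obtain ⟨b, h2, h4⟩ := exists_inv_on h1 e (fun x _ => by rw [he]; rfl)
  rw [← pow_mul, mul_assoc] at h2 h4
  have hJ := js_eig h3 hg hP hU h4
  obtain ⟨u, hu, hq⟩ := hJ.exists h3 hQ fun h5 => h2 fun x hx => by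
    have h6 := eig_ne h3 (pow_mem_sub hU _) h4 hx
    rw [h5, Submodule.mem_bot, sub_eq_zero] at h6
    exact h6.symm
  by_cases hb : Pl Q (g ^ (j * 2 ^ b)) (U ⊓ eig (g ^ (2 * (j * 2 ^ b))) (-1)) u = ⊥
  swap
  · exact Or.inr ⟨_, u, h4, hu, hq, hb⟩
  have hq' : Q u ≠ 0 := by rw [hq]; simp
  obtain ⟨h5, h6⟩ := one_plane h3 hg hP hU h4 hu hq hq' hb
  refine Or.inl ⟨u, hu.1, hq', hq, ?_⟩
  cases b with
  | zero => simpa using h6
  | succ b =>
    have h7 : (g ^ 4) u = u := by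
      show g (g (g (g u))) = u
      rw [h5, map_neg, map_neg, h5, neg_neg]
    have h8 := mem_eig.1 hu.2
    rw [show 2 * (j * 2 ^ (b + 1)) = 4 * (j * 2 ^ b) by ring, pow_mul, pow_fix h7, neg_one_smul] at h8
    exact absurd (by rw [h3.eq_zero h8, QuadraticMap.map_zero]) hq'

end Cfsg.Agent.ODD.Exc
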