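import Cfsg.Agent.ODD.Exc.O7A

/-!
# ODD-EXC: two planes, the check in `GU₂(3) ≤ O₄⁺(3)` (helper87)
-/

set_option autoImplicit false
set_option maxRecDepth 100000

namespace Cfsg.Agent.ODD.Exc

open QuadraticMap Module Cfsg.Agent.LieClassical.OrthCore Cfsg.Agent.LieClassical.OrthTrans

/-- coordinates -/
structure V4 where
  /-- first -/
  a : ℕ
  /-- second -/
  b : ℕ
  /-- third -/
  c : ℕ
  /-- fourth -/
  d : ℕ

/-- columns -/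
structure M4 where
  /-- first -/
  a : V4
  /-- second -/
  b : V4
  /-- third -/
  c : V4
  /-- fourth -/
  d : V4

/-- matrix times vector -/
def M4.ap (M : M4) (x : V4) : V4 :=
  ⟨(x.a * M.a.a + x.b * M.b.a + x.c * M.c.a + x.d * M.d.a) % 3, (x.a * M.a.b + x.b * M.b.b + x.c * M.c.b + x.d * M.d.b) % 3,
    (x.a * M.a.c + x.b * M.b.c + x.c * M.c.c + x.d * M.d.c) % 3, (x.a * M.a.d + x.b * M.b.d + x.c * M.c.d + x.d * M.d.d) % 3⟩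

/-- product -/
def M4.mul (M N : M4) : M4 := ⟨M.ap N.a, M.ap N.b, M.ap N.c, M.ap N.d⟩

/-- equality modulo three -/
def V4.beq (x y : V4) : Bool :=
  Nat.beq (x.a % 3) (y.a % 3) && (Nat.beq (x.b % 3) (y.b % 3) && (Nat.beq (x.c % 3) (y.c % 3) && Nat.beq (x.d % 3) (y.d % 3)))

/-- equality modulo three -/
def M4.beq (M N : M4) : Bool := M.a.beq N.a && (M.b.beq N.b && (M.c.beq N.c && M.d.beq N.d))

/-- scalar matrices -/
def M4.sc (s : ℕ) : M4 := ⟨⟨s, 0, 0, 0⟩, ⟨0, s, 0, 0⟩, ⟨0, 0, s, 0⟩, ⟨0, 0, 0, s⟩⟩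

/-- the scalar product -/
def V4.dot (x y : V4) : ℕ := x.a * y.a + x.b * y.b + x.c * y.c + x.d * y.d

/-- the action of `J` -/
def V4.J (x : V4) : V4 := ⟨2 * x.b, x.a, 2 * x.d, x.c⟩

/-- reflection of a vector -/
def V4.rv (v x : V4) : V4 :=
  ⟨x.a + v.dot v * v.dot x * v.a, x.b + v.dot v * v.dot x * v.b, x.c + v.dot v * v.dot x * v.c, x.d + v.dot v * v.dot x * v.d⟩

/-- reflection -/
def V4.rf (v : V4) : M4 := ⟨v.rv ⟨1, 0, 0, 0⟩, v.rv ⟨0, 1, 0, 0⟩, v.rv ⟨0, 0, 1, 0⟩, v.rv ⟨0, 0, 0, 1⟩⟩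

/-- `1` or the product of two reflections -/
def op (v w : V4) : List M4 := [M4.sc 1, v.rf.mul w.rf]

/-- representatives of `2^{1+4}` modulo its centre -/
def qO : List M4 :=
  (op ⟨1, 0, 0, 0⟩ ⟨0, 1, 0, 0⟩).flatMap fun a => (op ⟨1, 0, 0, 0⟩ ⟨0, 0, 1, 0⟩).flatMap fun b =>
    (op ⟨1, 2, 0, 0⟩ ⟨0, 0, 1, 2⟩).flatMap fun c => (op ⟨1, 0, 2, 0⟩ ⟨0, 1, 0, 2⟩).map fun d => (a.mul b).mul (c.mul d)

/-- all vectors -/
def allV (p : V4 → Bool) : Bool :=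
  [0, 1, 2].all fun a => [0, 1, 2].all fun b => [0, 1, 2].all fun c => [0, 1, 2].all fun d => p ⟨a, b, c, d⟩

theorem chkO : allV (fun x => !(Nat.beq (x.dot x % 3) 1) || allV fun y =>
    !(Nat.beq (y.dot y % 3) 1 && (Nat.beq (x.dot y % 3) 0 && Nat.beq (x.J.dot y % 3) 0)) ||
      tst M4.mul M4.beq (M4.sc 1) (M4.sc 2) qO ⟨x, x.J, y, y.J⟩) = true := by decide +kernel

theorem allV_spec {p : V4 → Bool} (h : allV p = true) {x : V4} (ha : x.a < 3) (hb : x.b < 3) (hc : x.c < 3)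
    (hd : x.d < 3) : p x = true := by
  have key : ∀ n : ℕ, n < 3 → n ∈ [0, 1, 2] := by decide
  simp only [allV, List.all_eq_true] at h
  exact h _ (key _ ha) _ (key _ hb) _ (key _ hc) _ (key _ hd)

variable {F V : Type*} [Field F] [AddCommGroup V] [Module F V] {Q : QuadraticForm F V}

theorem Three.cast_eq (h3 : Three F) (m n : ℕ) : Nat.beq (m % 3) (n % 3) = true ↔ (m : F) = n := by
  have : CharP F 3 := (CharP.charP_iff_prime_eq_zero (by norm_num)).2 (by exact_mod_cast h3.three)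
  rw [Nat.beq_eq, CharP.natCast_eq_natCast F 3]
  rfl

theorem Three.cast_mod (h3 : Three F) (n : ℕ) : ((n % 3 : ℕ) : F) = n :=
  (h3.cast_eq _ _).1 (by rw [Nat.mod_mod, Nat.beq_eq])

theorem Three.exists_cast (h3 : Three F) (c : F) : ∃ n : ℕ, n < 3 ∧ (n : F) = c := by
  rcases h3.cases c with rfl | rfl | rfl
  · exact ⟨0, by norm_num, Nat.cast_zero⟩
  · exact ⟨1, by norm_num, Nat.cast_one⟩
  · exact ⟨2, by norm_num, by push_cast; linear_combination h3.three⟩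

/-- an orthonormal frame -/
structure Fr (Q : QuadraticForm F V) (e₁ e₂ e₃ e₄ : V) : Prop where
  three : Three F
  q1 : Q e₁ = -1
  q2 : Q e₂ = -1
  q3 : Q e₃ = -1
  q4 : Q e₄ = -1
  p12 : polar Q e₁ e₂ = 0
  p13 : polar Q e₁ e₃ = 0
  p14 : polar Q e₁ e₄ = 0
  p23 : polar Q e₂ e₃ = 0
  p24 : polar Q e₂ e₄ = 0
  p34 : polar Q e₃ e₄ = 0

/-- the vector with given coordinates -/
def vec (F : Type*) {V : Type*} [Field F] [AddCommGroup V] [Module F V] (e₁ e₂ e₃ e₄ : V) (x : V4) : V :=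
  (x.a : F) • e₁ + (x.b : F) • e₂ + (x.c : F) • e₃ + (x.d : F) • e₄

/-- `M` is the matrix of `k` -/
def Rep (e₁ e₂ e₃ e₄ : V) (k : V ≃ₗ[F] V) (M : M4) : Prop :=
  ∀ x, k (vec F e₁ e₂ e₃ e₄ x) = vec F e₁ e₂ e₃ e₄ (M.ap x)

section

variable {e₁ e₂ e₃ e₄ : V} (h : Fr Q e₁ e₂ e₃ e₄)

include h

theorem Fr.vec_ap (M : M4) (x : V4) : vec F e₁ e₂ e₃ e₄ (M.ap x) = (x.a : F) • vec F e₁ e₂ e₃ e₄ M.a +
    (x.b : F) • vec F e₁ e₂ e₃ e₄ M.b + (x.c : F) • vec F e₁ e₂ e₃ e₄ M.c + (x.d : F) • vec F e₁ e₂ e₃ e₄ M.d := by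
  simp only [vec, M4.ap, h.three.cast_mod]
  push_cast
  module

theorem Fr.rep {k : V ≃ₗ[F] V} {M : M4} (h1 : k e₁ = vec F e₁ e₂ e₃ e₄ M.a) (h2 : k e₂ = vec F e₁ e₂ e₃ e₄ M.b)
    (h3 : k e₃ = vec F e₁ e₂ e₃ e₄ M.c) (h4 : k e₄ = vec F e₁ e₂ e₃ e₄ M.d) : Rep e₁ e₂ e₃ e₄ k M := fun x => by
  rw [h.vec_ap, ← h1, ← h2, ← h3, ← h4, vec, map_add, map_add, map_add, map_smul, map_smul, map_smul, map_smul]

theorem Fr.polar_vec (x y : V4) : polar Q (vec F e₁ e₂ e₃ e₄ x) (vec F e₁ e₂ e₃ e₄ y) = (x.dot y : ℕ) := by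
  simp only [vec, V4.dot, polar_add_left, polar_add_right, polar_smul_left, polar_smul_right, polar_unit h.three h.q1,
    polar_unit h.three h.q2, polar_unit h.three h.q3, polar_unit h.three h.q4, h.p12, h.p13, h.p14, h.p23, h.p24, h.p34,
    polar_zero_of_comm h.p12, polar_zero_of_comm h.p13, polar_zero_of_comm h.p14, polar_zero_of_comm h.p23,
    polar_zero_of_comm h.p24, polar_zero_of_comm h.p34, smul_eq_mul]
  push_cast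
  ring

theorem Fr.Q_vec (x : V4) : Q (vec F e₁ e₂ e₃ e₄ x) = -(x.dot x : ℕ) := by
  have h1 := h.polar_vec x x
  rw [polar_self'] at h1
  linear_combination -h1 + Q (vec F e₁ e₂ e₃ e₄ x) * h.three.three

theorem Fr.beq (x y : V4) : x.beq y = true ↔ vec F e₁ e₂ e₃ e₄ x = vec F e₁ e₂ e₃ e₄ y := by
  simp only [V4.beq, Bool.and_eq_true, h.three.cast_eq]
  refine ⟨fun ⟨h1, h2, h3, h4⟩ => by rw [vec, vec, h1, h2, h3, h4], fun h1 => ?_⟩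
  have key : ∀ w : V4, ((w.dot x : ℕ) : F) = (w.dot y : ℕ) := fun w => by rw [← h.polar_vec, ← h.polar_vec, h1]
  exact ⟨by simpa [V4.dot] using key ⟨1, 0, 0, 0⟩, by simpa [V4.dot] using key ⟨0, 1, 0, 0⟩,
    by simpa [V4.dot] using key ⟨0, 0, 1, 0⟩, by simpa [V4.dot] using key ⟨0, 0, 0, 1⟩⟩

theorem Fr.cols {k : V ≃ₗ[F] V} {M : M4} (R : Rep e₁ e₂ e₃ e₄ k M) :
    k e₁ = vec F e₁ e₂ e₃ e₄ M.a ∧ k e₂ = vec F e₁ e₂ e₃ e₄ M.b ∧ k e₃ = vec F e₁ e₂ e₃ e₄ M.c ∧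
      k e₄ = vec F e₁ e₂ e₃ e₄ M.d := by
  have key := fun x => (R x).trans (h.vec_ap M x)
  exact ⟨by simpa [vec] using key ⟨1, 0, 0, 0⟩, by simpa [vec] using key ⟨0, 1, 0, 0⟩,
    by simpa [vec] using key ⟨0, 0, 1, 0⟩, by simpa [vec] using key ⟨0, 0, 0, 1⟩⟩

theorem Fr.mul {k k' : V ≃ₗ[F] V} {M N : M4} (R : Rep e₁ e₂ e₃ e₄ k M) (R' : Rep e₁ e₂ e₃ e₄ k' N) :
    Rep e₁ e₂ e₃ e₄ (k * k') (M.mul N) := by
  obtain ⟨h1, h2, h3, h4⟩ := h.cols R'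
  exact h.rep ((congrArg k h1).trans (R _)) ((congrArg k h2).trans (R _)) ((congrArg k h3).trans (R _))
    ((congrArg k h4).trans (R _))

theorem Fr.mbeq {k k' : V ≃ₗ[F] V} {M N : M4} (R : Rep e₁ e₂ e₃ e₄ k M) (R' : Rep e₁ e₂ e₃ e₄ k' N) :
    M.beq N = true ↔ ∀ x, k (vec F e₁ e₂ e₃ e₄ x) = k' (vec F e₁ e₂ e₃ e₄ x) := by
  simp only [M4.beq, Bool.and_eq_true, h.beq]
  refine ⟨fun ⟨h1, h2, h3, h4⟩ x => by rw [R, R', h.vec_ap, h.vec_ap, h1, h2, h3, h4], fun h0 => ?_⟩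
  obtain ⟨h1, h2, h3, h4⟩ := h.cols R'
  obtain ⟨h5, h6, h7, h8⟩ := h.cols (k := k') (M := M) fun x => (h0 x).symm.trans (R x)
  exact ⟨h5.symm.trans h1, h6.symm.trans h2, h7.symm.trans h3, h8.symm.trans h4⟩

theorem Fr.sc {k : V ≃ₗ[F] V} {s : ℕ} (h1 : k e₁ = (s : F) • e₁) (h2 : k e₂ = (s : F) • e₂) (h3 : k e₃ = (s : F) • e₃)
    (h4 : k e₄ = (s : F) • e₄) : Rep e₁ e₂ e₃ e₄ k (M4.sc s) :=
  h.rep (by simpa [vec, M4.sc] using h1) (by simpa [vec, M4.sc] using h2) (by simpa [vec, M4.sc] using h3)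
    (by simpa [vec, M4.sc] using h4)

theorem Fr.one : Rep e₁ e₂ e₃ e₄ (1 : V ≃ₗ[F] V) (M4.sc 1) := h.sc (by simp) (by simp) (by simp) (by simp)

theorem Fr.refl_vec {v : V4} (hv : Q (vec F e₁ e₂ e₃ e₄ v) ≠ 0) (x : V4) :
    refl Q _ hv (vec F e₁ e₂ e₃ e₄ x) = vec F e₁ e₂ e₃ e₄ (v.rv x) := by
  have h1 : (Q (vec F e₁ e₂ e₃ e₄ v))⁻¹ = Q (vec F e₁ e₂ e₃ e₄ v) := by
    rcases h.three.cases (Q (vec F e₁ e₂ e₃ e₄ v)) with h2 | h2 | h2 <;> simp [h2]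
  rw [refl_apply, h1, h.Q_vec, h.polar_vec]
  simp only [vec, V4.rv]
  push_cast
  module

theorem Fr.refl {v : V4} (hv : Q (vec F e₁ e₂ e₃ e₄ v) ≠ 0) : Rep e₁ e₂ e₃ e₄ (refl Q _ hv) v.rf :=
  h.rep (by simpa [vec, V4.rf] using h.refl_vec hv ⟨1, 0, 0, 0⟩) (by simpa [vec, V4.rf] using h.refl_vec hv ⟨0, 1, 0, 0⟩)
    (by simpa [vec, V4.rf] using h.refl_vec hv ⟨0, 0, 1, 0⟩) (by simpa [vec, V4.rf] using h.refl_vec hv ⟨0, 0, 0, 1⟩)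

end

/-- the matrix of an element of `Ω` which is trivial on the orthogonal complement of the frame -/
def Gd (Q : QuadraticForm F V) (e₁ e₂ e₃ e₄ : V) (M : M4) : Prop :=
  ∃ k ∈ E Q, Rep e₁ e₂ e₃ e₄ k M ∧ ∀ y, (∀ x, polar Q (vec F e₁ e₂ e₃ e₄ x) y = 0) → k y = y

section

variable {e₁ e₂ e₃ e₄ : V} (h : Fr Q e₁ e₂ e₃ e₄)

include h

theorem Fr.gd_mul {M N : M4} (h1 : Gd Q e₁ e₂ e₃ e₄ M) (h2 : Gd Q e₁ e₂ e₃ e₄ N) : Gd Q e₁ e₂ e₃ e₄ (M.mul N) := by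
  obtain ⟨k, hk, R, h3⟩ := h1
  obtain ⟨k', hk', R', h4⟩ := h2
  exact ⟨k * k', mul_mem hk hk', h.mul R R', fun y hy => (congrArg k (h4 y hy)).trans (h3 y hy)⟩

theorem Fr.gd_op (hG : Good Q) {v w : V4} {s : ℕ} (hv : v.dot v % 3 = s) (hw : w.dot w % 3 = s) (hs : s ≠ 0) :
    ∀ M ∈ op v w, Gd Q e₁ e₂ e₃ e₄ M := by
  have key : ∀ u : V4, u.dot u % 3 = s → Q (vec F e₁ e₂ e₃ e₄ u) ≠ 0 := fun u hu h0 => by
    rw [h.Q_vec, neg_eq_zero, ← Nat.cast_zero, ← h.three.cast_eq, hu, Nat.beq_eq] at h0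
    exact hs h0
  have fix : ∀ (u : V4) (hu : Q (vec F e₁ e₂ e₃ e₄ u) ≠ 0) (y : V), (∀ x, polar Q (vec F e₁ e₂ e₃ e₄ x) y = 0) →
      LieClassical.OrthCore.refl Q _ hu y = y := fun u hu y hy => by rw [refl_apply, hy, mul_zero, zero_smul, sub_zero]
  intro M hM
  simp only [op, List.mem_cons, List.not_mem_nil, or_false] at hM
  rcases hM with rfl | rfl
  · exact ⟨1, one_mem _, h.one, fun _ _ => rfl⟩
  · refine ⟨_, hG.refl_mul_refl_mem (key w hw) (key v hv) ?_, h.mul (h.refl _) (h.refl _), fun y hy =>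
      (congrArg _ (fix w (key w hw) y hy)).trans (fix v (key v hv) y hy)⟩
    rw [h.Q_vec, h.Q_vec, ← h.three.cast_mod, hw, ← hv, h.three.cast_mod]

theorem Fr.gd_qO (hG : Good Q) : ∀ M ∈ qO, Gd Q e₁ e₂ e₃ e₄ M := by
  intro M hM
  simp only [qO, List.mem_flatMap, List.mem_map] at hM
  obtain ⟨a, ha, b, hb, c, hc, d, hd, rfl⟩ := hM
  exact h.gd_mul (h.gd_mul (h.gd_op hG (s := 1) rfl rfl one_ne_zero a ha) (h.gd_op hG (s := 1) rfl rfl one_ne_zero b hb))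
    (h.gd_mul (h.gd_op hG (s := 2) rfl rfl two_ne_zero c hc) (h.gd_op hG (s := 2) rfl rfl two_ne_zero d hd))

theorem Fr.pl {k : V ≃ₗ[F] V} {A : M4} (R : Rep e₁ e₂ e₃ e₄ k A) (d : M4) : ∀ (n : ℕ) {k' : V ≃ₗ[F] V} {X : M4},
    Rep e₁ e₂ e₃ e₄ k' X → ∀ i, i < n →
      (pl M4.mul A n X).getD i d ∈ pl M4.mul A n X ∧ Rep e₁ e₂ e₃ e₄ (k' * k ^ i) ((pl M4.mul A n X).getD i d) := by
  intro n
  induction n with
  | zero => intro k' X _ i hi; omega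
  | succ n ih =>
    intro k' X R' i hi
    cases i with
    | zero => exact ⟨List.mem_cons_self, by simpa [Exc.pl] using R'⟩
    | succ i =>
      obtain ⟨h1, h2⟩ := ih (h.mul R' R) i (by omega)
      rw [Exc.pl, List.getD_cons_succ]
      exact ⟨List.mem_cons_of_mem _ h1, by rwa [pow_succ', ← mul_assoc]⟩

theorem Fr.conj (hG : Good Q) {g : V ≃ₗ[F] V} {A : M4} (R : Rep e₁ e₂ e₃ e₄ g A)
    (hA : tst M4.mul M4.beq (M4.sc 1) (M4.sc 2) qO A = true) {n j e : ℕ} (hn : Rep e₁ e₂ e₃ e₄ (g ^ (2 * n)) (M4.sc 2))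
    (hj : (g ^ (2 * j)) ^ 2 ^ e = 1) : ∃ c ∈ E Q,
      (∀ x, c (g (vec F e₁ e₂ e₃ e₄ x)) = (g ^ (2 * j)) (g (c (vec F e₁ e₂ e₃ e₄ x)))) ∧
      ∀ y, (∀ x, polar Q (vec F e₁ e₂ e₃ e₄ x) y = 0) → c y = y := by
  simp only [tst, Bool.and_eq_true, Bool.or_eq_true, Bool.not_eq_true', List.all_eq_true, List.any_eq_true] at hA
  obtain ⟨h1, h2⟩ := hA
  have hp := h.pl (h.mul R R) (M4.sc 2) 13 h.one
  simp only [one_mul, ← pow_two] at hp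
  rw [h.mbeq (hp 12 (by norm_num)).2 h.one] at h1
  have key : ∀ i : ℕ, ∃ w ∈ Exc.pl M4.mul (A.mul A) 13 (M4.sc 1), Rep e₁ e₂ e₃ e₄ (g ^ (2 * i)) w := fun i => by
    obtain ⟨h3, h4⟩ := hp (i % 12) (by omega)
    refine ⟨_, h3, fun x => ?_⟩
    rw [← h4 x, pow_mul]
    conv_lhs => rw [← Nat.mod_add_div i 12, pow_add, pow_mul]
    exact congrArg _ (pow_fix (h1 x) _)
  rcases h2 with h2 | h2
  · obtain ⟨w, hw, h3⟩ := key n
    have h4 : ((Exc.pl M4.mul (A.mul A) 13 (M4.sc 1)).any fun w => w.beq (M4.sc 2)) = true :=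
      List.any_eq_true.2 ⟨w, hw, (h.mbeq h3 hn).2 fun _ => rfl⟩
    rw [h2] at h4
    exact absurd h4 (by simp)
  obtain ⟨w, hw, h3⟩ := key j
  rcases h2 w hw with (h5 | h5) | ⟨C, hC, h5⟩
  · have h6 : ((w.mul w).mul (w.mul w)).beq (M4.sc 1) = true := by
      rw [h.mbeq (h.mul (h.mul h3 h3) (h.mul h3 h3)) h.one]
      intro x
      have h7 : ∀ m, ((g ^ (2 * j)) ^ m) (vec F e₁ e₂ e₃ e₄ x) = vec F e₁ e₂ e₃ e₄ x ↔
          Function.IsPeriodicPt (g ^ (2 * j)) m (vec F e₁ e₂ e₃ e₄ x) := fun m => by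
        rw [LinearEquiv.pow_apply]; rfl
      have h8 := (h7 12).1 (by rw [pow_mul, ← pow_mul _ j, mul_comm j, pow_mul]; exact pow_fix (h1 x) _)
      have h9 := (h7 (2 ^ e)).1 (by rw [hj]; rfl)
      have h10 : Nat.gcd (2 ^ e) (4 * 3) ∣ 4 :=
        (Nat.Coprime.coprime_dvd_left (Nat.gcd_dvd_left _ _) (Nat.Coprime.pow_left e (by decide))).dvd_of_dvd_mul_right
          (Nat.gcd_dvd_right _ _)
      exact (h9.gcd h8).trans_dvd h10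
    rw [h5] at h6
    exact absurd h6 (by simp)
  · rw [h.mbeq h3 h.one] at h5
    refine ⟨1, one_mem _, fun x => ?_, fun _ _ => rfl⟩
    show _ = (g ^ (2 * j)) (g (vec F e₁ e₂ e₃ e₄ x))
    rw [comm_apply, h5]
    rfl
  · obtain ⟨c, hc, Rc, h6⟩ := h.gd_qO hG C hC
    exact ⟨c, hc, (h.mbeq (h.mul Rc R) (h.mul (h.mul h3 R) Rc)).1 h5, h6⟩

end

/-- **two planes** -/
theorem two_planes (h3 : Three F) (hG : Good Q) {g : V ≃ₗ[F] V} (hg : g ∈ O Q) {n j e : ℕ} {S : Submodule F V}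
    (hJ : JS Q (g ^ n) S) (hS : ∀ x ∈ S, g x ∈ S) {u v : V} (hu : u ∈ S) (hqu : Q u = -1) (hv : v ∈ Pl Q (g ^ n) S u)
    (hqv : Q v = -1) (hb : Pl Q (g ^ n) (Pl Q (g ^ n) S u) v = ⊥) (hj : (g ^ (2 * j)) ^ 2 ^ e = 1) :
    ∃ c ∈ E Q, (∀ x ∈ S, c (g x) = (g ^ (2 * j)) (g (c x))) ∧ ∀ y, (∀ x ∈ S, polar Q x y = 0) → c y = y := by
  have hJ' := hJ.next h3 hu hqu
  obtain ⟨hv1, hv2, hv3⟩ := mem_Pl.1 hv
  obtain ⟨-, hv4, hv5⟩ := mem_Pl.1 (hJ'.inv v hv)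
  have h : Fr Q u ((g ^ n) u) v ((g ^ n) v) := ⟨h3, hqu, (mem_O.1 hJ.iso u).trans hqu, hqv,
    (mem_O.1 hJ.iso v).trans hqv, hJ.orth h3 hu, hv2, hv4, hv3, hv5, hJ.orth h3 hv1⟩
  have hin : ∀ x, vec F u ((g ^ n) u) v ((g ^ n) v) x ∈ S := fun x =>
    add_mem (add_mem (add_mem (S.smul_mem _ hu) (S.smul_mem _ (hJ.inv u hu))) (S.smul_mem _ hv1))
      (S.smul_mem _ (hJ.inv v hv1))
  have hex : ∀ y ∈ S, ∃ x : V4, (x.a < 3 ∧ x.b < 3 ∧ x.c < 3 ∧ x.d < 3) ∧ vec F u ((g ^ n) u) v ((g ^ n) v) x = y := by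
    intro y hy
    have h1 := hJ'.decomp h3 hv hqv (hJ.decomp h3 hu hqu hy)
    rw [hb, Submodule.mem_bot] at h1
    generalize polar Q v _ = c at h1
    generalize polar Q ((g ^ n) v) _ = d at h1
    obtain ⟨a, ha, h4⟩ := h3.exists_cast (polar Q u y)
    obtain ⟨b, hb, h5⟩ := h3.exists_cast (polar Q ((g ^ n) u) y)
    obtain ⟨c, hc, rfl⟩ := h3.exists_cast c
    obtain ⟨d, hd, rfl⟩ := h3.exists_cast d
    refine ⟨⟨a, b, c, d⟩, ⟨ha, hb, hc, hd⟩, ?_⟩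
    rw [vec, h4, h5]
    linear_combination (norm := module) -h1
  have hJv : ∀ x, (g ^ n) (vec F u ((g ^ n) u) v ((g ^ n) v) x) = vec F u ((g ^ n) u) v ((g ^ n) v) x.J := fun x => by
    have h2 : (2 : F) = -1 := by linear_combination h3.three
    simp only [vec, V4.J, map_add, map_smul, hJ.sq u hu, hJ.sq v hv1]
    push_cast
    rw [h2]
    module
  obtain ⟨x, ⟨x1, x2, x3, x4⟩, hx⟩ := hex _ (hS u hu)
  obtain ⟨y, ⟨y1, y2, y3, y4⟩, hy⟩ := hex _ (hS v hv1)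
  have hx' : g ((g ^ n) u) = vec F u ((g ^ n) u) v ((g ^ n) v) x.J := by rw [← comm_apply, ← hx, hJv]
  have R : Rep u ((g ^ n) u) v ((g ^ n) v) g ⟨x, x.J, y, y.J⟩ :=
    h.rep hx.symm hx' hy.symm (by rw [← comm_apply, ← hy, hJv])
  have h1 := allV_spec chkO x1 x2 x3 x4
  have h2 : Nat.beq (x.dot x % 3) 1 = true := (h3.cast_eq _ 1).2 (by
    rw [← h.polar_vec, hx, polar_map hg, polar_unit h3 hqu, Nat.cast_one])
  rw [h2, Bool.not_true, Bool.false_or] at h1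
  have h4 := allV_spec h1 y1 y2 y3 y4
  have h5 : Nat.beq (y.dot y % 3) 1 = true := (h3.cast_eq _ 1).2 (by
    rw [← h.polar_vec, hy, polar_map hg, polar_unit h3 hqv, Nat.cast_one])
  have h6 : Nat.beq (x.dot y % 3) 0 = true := (h3.cast_eq _ 0).2 (by
    rw [← h.polar_vec, hx, hy, polar_map hg, hv2, Nat.cast_zero])
  have h7 : Nat.beq (x.J.dot y % 3) 0 = true := (h3.cast_eq _ 0).2 (by
    rw [← h.polar_vec, ← hx', hy, polar_map hg, hv3, Nat.cast_zero])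
  rw [h5, h6, h7, Bool.and_self, Bool.and_self, Bool.not_true, Bool.false_or] at h4
  have h8 : ∀ w ∈ S, (g ^ (2 * n)) w = ((2 : ℕ) : F) • w := fun w hw => by
    rw [sq_apply, hJ.sq w hw, show ((2 : ℕ) : F) = -1 by push_cast; linear_combination h3.three, neg_one_smul]
  obtain ⟨c, hc, h9, h10⟩ := h.conj hG R h4 (h.sc (h8 u hu) (h8 _ (hJ.inv u hu)) (h8 v hv1) (h8 _ (hJ.inv v hv1))) hj
  refine ⟨c, hc, fun w hw => ?_, fun w hw => h10 w fun z => hw _ (hin z)⟩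
  obtain ⟨z, -, rfl⟩ := hex w hw
  exact h9 z

end Cfsg.Agent.ODD.Exc
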