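import Cfsg.Agent.ODD.Alt.Rat

/-!
# ODD-EXC: reduction of `AllR` to centralizers of involutions (helper87)

* `allR_of_two` : it is enough to see `g ~ g * w` for the `2`-elements `w` of `⟨g²⟩`;
* `allR_of_inv` : ... and only when an involution of a given set of class representatives lies in `⟨g²⟩`;
* `Mod.allR` : a computable model of the centralizer of an involution (one class, exponent dividing `24`).
-/

set_option autoImplicit false

namespace Cfsg.Agent.ODD.Exc

open Cfsg Cfsg.Agent.ODD.Alt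

universe u v

section

variable {G : Type u} [Group G] [Finite G]

theorem allR_of_two (h : ∀ (g : G) (j e : ℕ), (g ^ (2 * j)) ^ 2 ^ e = 1 → IsConj g (g ^ (2 * j + 1))) : AllR G := by
  refine allR_of_conj fun τ hτ k hk h1 g => ?_
  by_cases h5 : Odd (orderOf g)
  · rw [pow_eq_of_two hτ h1 pow_card_eq_one' h5]
  have h6 : Odd k := Nat.coprime_two_right.1
    (hk.coprime_dvd_right ((even_iff_two_dvd.1 (Nat.not_odd_iff_even.1 h5)).trans (orderOf_dvd_natCard g)))
  obtain ⟨a, m, hm, ho⟩ := Nat.exists_eq_two_pow_mul_odd (orderOf_pos g).ne'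
  have h4 : Odd (orderOf (g ^ 2 ^ a)) :=
    hm.of_dvd_nat (orderOf_dvd_of_pow_eq_one (by rw [← pow_mul, ← ho, pow_orderOf_eq_one]))
  have h7 := pow_eq_of_two hτ h1 pow_card_eq_one' h4
  obtain ⟨j, rfl⟩ := h6
  refine h g j a ?_
  rw [pow_succ, mul_eq_right] at h7
  rw [← pow_mul, mul_comm, pow_mul, h7]

omit [Finite G] in
theorem exists_inv {w : G} (h1 : w ≠ 1) : ∀ e : ℕ, w ^ 2 ^ e = 1 → ∃ b : ℕ, w ^ b ≠ 1 ∧ w ^ b * w ^ b = 1 := by
  intro e
  induction e with
  | zero => intro h; exact absurd (by simpa using h) h1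
  | succ e ih =>
    intro h
    by_cases h2 : w ^ 2 ^ e = 1
    · exact ih h2
    · exact ⟨2 ^ e, h2, by rw [← pow_add, ← h, pow_succ, mul_two]⟩

/-- `P` contains a conjugate of every involution which is a square -/
theorem allR_of_inv (P : G → Prop) (hP : ∀ y : G, y * y ≠ 1 → y * y * (y * y) = 1 → ∃ z, P z ∧ IsConj (y * y) z)
    (h : ∀ (g : G) (j e n : ℕ), P (g ^ (2 * n)) → (g ^ (2 * j)) ^ 2 ^ e = 1 → IsConj g (g ^ (2 * j + 1))) :
    AllR G := by
  refine allR_of_two fun g j e hj => ?_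
  by_cases h1 : g ^ (2 * j) = 1
  · rw [pow_succ, h1, one_mul]
  obtain ⟨b, h2, h3⟩ := exists_inv h1 e hj
  have h4 : (g ^ (2 * j)) ^ b = g ^ (j * b) * g ^ (j * b) := by
    rw [← pow_mul, ← pow_add]
    congr 1
    ring
  rw [h4] at h2 h3
  obtain ⟨z, hz, hc⟩ := hP _ h2 h3
  obtain ⟨c, hc⟩ := isConj_iff.1 hc
  have h5 := h (c * g * c⁻¹) j e (j * b) (by rw [conj_pow, two_mul, pow_add, hc]; exact hz)
    (by rw [conj_pow, conj_pow, hj]; group)
  rw [conj_pow] at h5
  exact ((isConj_iff.2 ⟨c, rfl⟩ : IsConj g (c * g * c⁻¹)).trans h5).trans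
    (isConj_iff.2 ⟨c, rfl⟩ : IsConj (g ^ (2 * j + 1)) (c * g ^ (2 * j + 1) * c⁻¹)).symm

end

/-! ### computable models -/

/-- powers in a model -/
def pw {T : Type v} (mul : T → T → T) (one a : T) : ℕ → T
  | 0 => one
  | n + 1 => mul (pw mul one a n) a

/-- the list `x, x a, x a², ..` -/
def pl {T : Type v} (mul : T → T → T) (a : T) : ℕ → T → List T
  | 0, _ => []
  | n + 1, x => x :: pl mul a n (mul x a)

/-- the test of one element -/
def tst {T : Type v} (mul : T → T → T) (beq : T → T → Bool) (one z : T) (C : List T) (t : T) : Bool :=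
  match pl mul (mul t t) 13 one with
  | L => beq (L.getD 12 z) one &&
    (!(L.any fun w => beq w z) ||
      L.all fun w => !(beq (mul (mul w w) (mul w w)) one) || beq w one || C.any fun c => beq (mul c t) (mul (mul w t) c))

/-- a model of the centralizer of `z` -/
structure Mod {G : Type u} [Group G] {T : Type v} (mul : T → T → T) (beq : T → T → Bool) (one z : T) (ev : T → G) :
    Prop where
  mul : ∀ a b, ev (mul a b) = ev a * ev b
  one : ev one = 1
  beq : ∀ a b, beq a b = true ↔ ev a = ev b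
  surj : ∀ g, g * ev z = ev z * g → ∃ t, ev t = g

section

variable {G : Type u} [Group G] {T : Type v} {mul : T → T → T} {beq : T → T → Bool} {one z : T} {ev : T → G}

theorem Mod.mem_pl (M : Mod mul beq one z ev) (a : T) : ∀ (n : ℕ) (x : T) (i : ℕ), i < n →
    ∃ w ∈ pl mul a n x, ev w = ev x * ev a ^ i := by
  intro n
  induction n with
  | zero => intro x i hi; omega
  | succ n ih =>
    intro x i hi
    cases i with
    | zero => exact ⟨x, List.mem_cons_self, by simp⟩
    | succ i =>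
      obtain ⟨w, hw, h⟩ := ih (mul x a) i (by omega)
      exact ⟨w, List.mem_cons_of_mem _ hw, by rw [h, M.mul, pow_succ', mul_assoc]⟩

theorem Mod.getD_pl (M : Mod mul beq one z ev) (a d : T) : ∀ (n : ℕ) (x : T) (i : ℕ), i < n →
    ev ((pl mul a n x).getD i d) = ev x * ev a ^ i := by
  intro n
  induction n with
  | zero => intro x i hi; omega
  | succ n ih =>
    intro x i hi
    cases i with
    | zero => simp [pl]
    | succ i => rw [pl, List.getD_cons_succ, ih _ i (by omega), M.mul, pow_succ', mul_assoc]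

theorem Mod.conj (M : Mod mul beq one z ev) {C : List T} (h : ∀ t, tst mul beq one z C t = true) (g : G) (j e n : ℕ)
    (hn : g ^ (2 * n) = ev z) (hj : (g ^ (2 * j)) ^ 2 ^ e = 1) : IsConj g (g ^ (2 * j + 1)) := by
  obtain ⟨t, rfl⟩ := M.surj g (by rw [← hn]; exact ((Commute.refl g).pow_right _).eq)
  have h1 := h t
  simp only [tst, Bool.and_eq_true, Bool.or_eq_true, Bool.not_eq_true', List.all_eq_true, List.any_eq_true] at h1
  obtain ⟨h1, h2⟩ := h1
  rw [M.beq, M.getD_pl _ _ _ _ _ (by norm_num), M.one, one_mul, M.mul, ← pow_two] at h1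
  have key : ∀ i : ℕ, ∃ w ∈ pl mul (mul t t) 13 one, ev w = ev t ^ (2 * i) := fun i => by
    obtain ⟨w, hw, h3⟩ := M.mem_pl (mul t t) 13 one (i % 12) (by omega)
    refine ⟨w, hw, ?_⟩
    rw [h3, M.one, one_mul, M.mul, ← pow_two, pow_mul]
    conv_rhs => rw [← Nat.div_add_mod i 12, pow_add, pow_mul, h1, one_pow, one_mul]
  rcases h2 with h2 | h2
  · obtain ⟨w, hw, h3⟩ := key n
    have h4 : ((pl mul (mul t t) 13 one).any fun w => beq w z) = true :=
      List.any_eq_true.2 ⟨w, hw, (M.beq _ _).2 (h3.trans hn)⟩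
    rw [h2] at h4
    exact absurd h4 (by simp)
  obtain ⟨w, hw, h3⟩ := key j
  have h4 : ev w ^ 4 = 1 := by
    have h5 : orderOf (ev w) ∣ 2 ^ e := orderOf_dvd_of_pow_eq_one (by rw [h3, hj])
    have h6 : orderOf (ev w) ∣ 4 * 3 :=
      orderOf_dvd_of_pow_eq_one (by
        rw [h3, pow_mul _ 2 j, ← pow_mul _ j, mul_comm j, pow_mul, h1, one_pow])
    exact orderOf_dvd_iff_pow_eq_one.1
      ((Nat.Coprime.coprime_dvd_left h5 (Nat.Coprime.pow_left e (by decide))).dvd_of_dvd_mul_right h6)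
  rcases h2 w hw with (h5 | h5) | ⟨c, -, h5⟩
  · have h6 : beq (mul (mul w w) (mul w w)) one = true := by
      rw [M.beq, M.mul, M.mul, M.one, ← h4, ← pow_two, ← pow_two, ← pow_mul]
    rw [h5] at h6
    exact absurd h6 (by simp)
  · rw [M.beq, M.one, h3] at h5
    rw [pow_succ, h5, one_mul]
  · rw [M.beq, M.mul, M.mul, M.mul, h3, ← pow_succ] at h5
    exact isConj_iff.2 ⟨ev c, by rw [h5, mul_inv_cancel_right]⟩

theorem Mod.allR [Finite G] (M : Mod mul beq one z ev) {C : List T} (h : ∀ t, tst mul beq one z C t = true)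
    (hz : ∀ t : G, t ≠ 1 → t * t = 1 → IsConj t (ev z)) : AllR G :=
  allR_of_inv (fun x => x = ev z) (fun _ h1 h2 => ⟨_, rfl, hz _ h1 h2⟩) (M.conj h)

end

end Cfsg.Agent.ODD.Exc
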